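import Groth.Agent.S16031
import Groth.Agent.S9203

/-!
Finitely many points lie in an affine open as soon as this holds on each of finitely many closed
subsets covering the scheme.
-/

set_option autoImplicit false
set_option linter.style.haveILetI false
universe u

open CategoryTheory CategoryTheory.Limits AlgebraicGeometry TopologicalSpace

namespace Groth.Agent.CompAffLib

open Scheme.IdealSheafData (vanishingIdeal)

variable {X : Scheme.{u}}

theorem range_subι (Z : Closeds X) : Set.range (vanishingIdeal Z).subschemeι = (Z : Set X) := by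
  rw [Scheme.IdealSheafData.range_subschemeι, Scheme.IdealSheafData.coe_support_vanishingIdeal]

/-- The points of `T` on `Z` lie in an affine open of the reduced closed subscheme `Z`. -/
def Good (T : Set X) (Z : Closeds X) : Prop :=
  ∃ V : (vanishingIdeal Z).subscheme.Opens, IsAffineOpen V ∧
    (vanishingIdeal Z).subschemeι ⁻¹' T ⊆ (V : Set (vanishingIdeal Z).subscheme)

theorem good_bot (T : Set X) : Good T ⊥ := by
  refine ⟨⊥, isAffineOpen_bot _, fun x _ => ?_⟩
  have hx : (vanishingIdeal (⊥ : Closeds X)).subschemeι x ∈ ((⊥ : Closeds X) : Set X) := by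
    rw [← range_subι]; exact Set.mem_range_self _
  exact absurd hx (by simp)

theorem Good.sup {T : Set X} (hT : T.Finite) {Z W : Closeds X} (hZ : Good T Z) (hW : Good T W) :
    Good T (Z ⊔ W) := by
  obtain ⟨V₁, hV₁, hTV₁⟩ := hZ
  obtain ⟨V₂, hV₂, hTV₂⟩ := hW
  let i := (vanishingIdeal Z).subschemeι
  let j := (vanishingIdeal W).subschemeι
  haveI : IsClosedImmersion (pullback.fst i j) := MorphismProperty.pullback_fst _ _ inferInstance
  haveI : IsClosedImmersion (pullback.snd i j) := MorphismProperty.pullback_snd _ _ inferInstance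
  obtain ⟨α, hα₁, hα₂⟩ := S16031.key (pullback.fst i j) (pullback.snd i j)
    (hT.preimage i.isClosedEmbedding.injective.injOn) (hT.preimage j.isClosedEmbedding.injective.injOn)
    (by
      ext z
      show i (pullback.fst i j z) ∈ T ↔ j (pullback.snd i j z) ∈ T
      rw [← Scheme.Hom.comp_apply, ← Scheme.Hom.comp_apply, pullback.condition])
    hV₁ hTV₁ hV₂ hTV₂
  -- the glued open subset
  let B : Set X := i '' (α.U : Set _)ᶜ ∪ j '' (α.V : Set _)ᶜ
  have hB : IsClosed B := (i.isClosedEmbedding.isClosedMap _ α.U.2.isClosed_compl).union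
    (j.isClosedEmbedding.isClosedMap _ α.V.2.isClosed_compl)
  let O : X.Opens := ⟨Bᶜ, hB.isOpen_compl⟩
  have hmeet : ∀ a b, i a = j b → (a ∈ α.U ↔ b ∈ α.V) := by
    intro a b hab
    obtain ⟨z, hz₁, hz₂⟩ := Scheme.Pullback.exists_preimage_pullback a b hab
    have h := SetLike.ext_iff.1 α.W_eq z
    rw [Scheme.Hom.mem_preimage, Scheme.Hom.mem_preimage, hz₁, hz₂] at h
    exact h
  have hiO : i ⁻¹ᵁ O = α.U := by
    refine TopologicalSpace.Opens.ext (Set.ext fun a => ⟨fun ha => ?_, fun ha h => ?_⟩)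
    · by_contra hn
      exact ha (Or.inl ⟨a, hn, rfl⟩)
    · rcases h with ⟨a', ha', he⟩ | ⟨b, hb, he⟩
      · exact ha' (i.isClosedEmbedding.injective he ▸ ha)
      · exact hb ((hmeet a b he.symm).1 ha)
  have hjO : j ⁻¹ᵁ O = α.V := by
    refine TopologicalSpace.Opens.ext (Set.ext fun b => ⟨fun hb => ?_, fun hb h => ?_⟩)
    · by_contra hn
      exact hb (Or.inr ⟨b, hn, rfl⟩)
    · rcases h with ⟨a, ha, he⟩ | ⟨b', hb', he⟩
      · exact ha ((hmeet a b he).2 hb)
      · exact hb' (j.isClosedEmbedding.injective he ▸ hb)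
  let k := (vanishingIdeal (Z ⊔ W)).subschemeι
  have h₁ : vanishingIdeal (Z ⊔ W) ≤ vanishingIdeal Z :=
    Scheme.IdealSheafData.vanishingIdeal_antimono le_sup_left
  have h₂ : vanishingIdeal (Z ⊔ W) ≤ vanishingIdeal W :=
    Scheme.IdealSheafData.vanishingIdeal_antimono le_sup_right
  let p := Scheme.IdealSheafData.inclusion h₁
  let q := Scheme.IdealSheafData.inclusion h₂
  have hp : p ≫ k = i := Scheme.IdealSheafData.inclusion_subschemeι h₁
  have hq : q ≫ k = j := Scheme.IdealSheafData.inclusion_subschemeι h₂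
  haveI : IsClosedImmersion (p ≫ k) := hp.symm ▸ (inferInstanceAs (IsClosedImmersion i))
  haveI : IsClosedImmersion (q ≫ k) := hq.symm ▸ (inferInstanceAs (IsClosedImmersion j))
  haveI : IsClosedImmersion p := IsClosedImmersion.of_comp p k
  haveI : IsClosedImmersion q := IsClosedImmersion.of_comp q k
  let U : (vanishingIdeal (Z ⊔ W)).subscheme.Opens := k ⁻¹ᵁ O
  have hpU : p ⁻¹ᵁ U = α.U := by
    show p ⁻¹ᵁ k ⁻¹ᵁ O = α.U
    rw [← Scheme.Hom.comp_preimage, hp, hiO]
  have hqU : q ⁻¹ᵁ U = α.V := by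
    show q ⁻¹ᵁ k ⁻¹ᵁ O = α.V
    rw [← Scheme.Hom.comp_preimage, hq, hjO]
  -- every point is on `Z` or on `W`
  have hcov : ∀ x, x ∈ Set.range p ∨ x ∈ Set.range q := by
    intro x
    have hx : k x ∈ ((Z ⊔ W : Closeds X) : Set X) := by rw [← range_subι]; exact Set.mem_range_self _
    rw [Closeds.coe_sup] at hx
    rcases hx with hx | hx
    · rw [← range_subι] at hx
      obtain ⟨a, ha⟩ := hx
      exact Or.inl ⟨a, k.isClosedEmbedding.injective (by rw [← Scheme.Hom.comp_apply, hp]; exact ha)⟩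
    · rw [← range_subι] at hx
      obtain ⟨b, hb⟩ := hx
      exact Or.inr ⟨b, k.isClosedEmbedding.injective (by rw [← Scheme.Hom.comp_apply, hq]; exact hb)⟩
  let P : Bool → Scheme.{u} := fun b => cond b (p ⁻¹ᵁ U).toScheme (q ⁻¹ᵁ U).toScheme
  let e : ∀ b, P b ⟶ U.toScheme := fun b => match b with | true => p ∣_ U | false => q ∣_ U
  haveI : ∀ b, IsClosedImmersion (e b) := fun b => by
    cases b
    · exact IsZariskiLocalAtTarget.restrict (P := @IsClosedImmersion) inferInstance U
    · exact IsZariskiLocalAtTarget.restrict (P := @IsClosedImmersion) inferInstance U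
  haveI : ∀ b, IsAffine (P b) := fun b => by
    cases b
    · show IsAffineOpen (q ⁻¹ᵁ U)
      rw [hqU]; exact α.hV
    · show IsAffineOpen (p ⁻¹ᵁ U)
      rw [hpU]; exact α.hU
  haveI : IsAffine U.toScheme := S9203.result U.toScheme P e fun x => by
    rcases hcov x.1 with ⟨a, ha⟩ | ⟨b, hb⟩
    · refine ⟨true, ⟨a, show p a ∈ U by rw [ha]; exact x.2⟩, Subtype.ext ?_⟩
      exact (morphismRestrict_base_coe p U _).trans ha
    · refine ⟨false, ⟨b, show q b ∈ U by rw [hb]; exact x.2⟩, Subtype.ext ?_⟩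
      exact (morphismRestrict_base_coe q U _).trans hb
  refine ⟨U, ‹IsAffine U.toScheme›, fun x hx => ?_⟩
  rcases hcov x with ⟨a, rfl⟩ | ⟨b, rfl⟩
  · show a ∈ p ⁻¹ᵁ U
    rw [hpU]
    exact hα₁ (show i a ∈ T by rw [← hp]; exact hx)
  · show b ∈ q ⁻¹ᵁ U
    rw [hqU]
    exact hα₂ (show j b ∈ T by rw [← hq]; exact hx)

/-- Points that lie in affine opens on each member of a finite closed cover lie in an affine open. -/
theorem exists_affine_of_cover {T : Set X} (hT : T.Finite) {ι : Type*} [Finite ι] (Z : ι → Closeds X)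
    (hcov : ∀ x : X, ∃ i, x ∈ Z i) (h : ∀ i, Good T (Z i)) :
    ∃ U : X.Opens, IsAffineOpen U ∧ T ⊆ (U : Set X) := by
  classical
  haveI := Fintype.ofFinite ι
  have hall : ∀ s : Finset ι, Good T (s.sup Z) := fun s => by
    induction s using Finset.induction with
    | empty => exact good_bot T
    | insert a s _ ih => rw [Finset.sup_insert]; exact (h a).sup hT ih
  obtain ⟨V, hV, hTV⟩ := hall Finset.univ
  let k := (vanishingIdeal (Finset.univ.sup Z)).subschemeι
  have hs : Function.Surjective k := fun x => by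
    obtain ⟨i, hi⟩ := hcov x
    show x ∈ Set.range k
    rw [range_subι]
    exact (Finset.le_sup (f := Z) (Finset.mem_univ i) : Z i ≤ _) hi
  obtain ⟨O, hO, hOV⟩ := k.isClosedEmbedding.isInducing.isOpen_iff.1 V.2
  let U : X.Opens := ⟨O, hO⟩
  have hk : k ⁻¹ᵁ U = V := TopologicalSpace.Opens.ext hOV
  haveI : IsAffine (k ⁻¹ᵁ U).toScheme := hk.symm ▸ hV
  haveI : IsClosedImmersion (k ∣_ U) := IsZariskiLocalAtTarget.restrict (P := @IsClosedImmersion) inferInstance U
  refine ⟨U, Thicken.isAffine (k ∣_ U) (fun x => ?_), fun x hx => ?_⟩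
  · obtain ⟨a, ha⟩ := hs x.1
    exact ⟨⟨a, show k a ∈ U by rw [ha]; exact x.2⟩, Subtype.ext ((morphismRestrict_base_coe k U _).trans ha)⟩
  · obtain ⟨a, rfl⟩ := hs x
    have : a ∈ k ⁻¹ᵁ U := hk ▸ hTV hx
    exact this

end Groth.Agent.CompAffLib
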