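import Groth.Agent.CompAffLib.Basic

/-!
A morphism from an affine scheme which is bijective on generic points and an isomorphism on some
stalks: the images of these points lie in an affine open.
-/

set_option autoImplicit false
set_option linter.style.haveILetI false
universe u

open CategoryTheory CategoryTheory.Limits AlgebraicGeometry TopologicalSpace Opposite

namespace Groth.Agent.CompAffLib

open Scheme.IdealSheafData (vanishingIdeal)

theorem eq_of_specializes_genericPoints {α : Type*} [TopologicalSpace α] [T0Space α] {η y : α}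
    (hη : η ∈ genericPoints α) (h : y ⤳ η) : y = η :=
  (h.antisymm (specializes_iff_closure_subset.2
    (hη.2 isIrreducible_singleton.closure (specializes_iff_closure_subset.1 h)))).eq

theorem exists_genericPoint_specializes {α : Type*} [TopologicalSpace α] [QuasiSober α] (y : α) :
    ∃ η ∈ genericPoints α, η ⤳ y := by
  obtain ⟨η, hη⟩ := QuasiSober.sober (α := α) (isIrreducible_irreducibleComponent (x := y))
    isClosed_irreducibleComponent
  refine ⟨η, ?_, hη.specializes mem_irreducibleComponent⟩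
  show closure {η} ∈ irreducibleComponents α
  rw [hη.def]
  exact irreducibleComponent_mem_irreducibleComponents y

variable {T X : Scheme.{u}} (f : T ⟶ X)

theorem exists_lift_specializes (t : T) [IsIso (f.stalkMap t)] {y : X} (hy : y ⤳ f t) :
    ∃ t', t' ⤳ t ∧ f t' = y := by
  rw [← Set.mem_ofPred_eq (p := fun y => y ⤳ f t), ← Scheme.range_fromSpecStalk] at hy
  obtain ⟨p, rfl⟩ := hy
  obtain ⟨q, rfl⟩ := (Spec.map (f.stalkMap t)).surjective p
  refine ⟨T.fromSpecStalk t q, ?_, ?_⟩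
  · have := Set.mem_range_self (f := T.fromSpecStalk t) q
    rwa [Scheme.range_fromSpecStalk] at this
  · rw [← Scheme.Hom.comp_apply, ← Scheme.SpecMap_stalkMap_fromSpecStalk, Scheme.Hom.comp_apply]

theorem eq_of_specializes (t : T) [IsIso (f.stalkMap t)] {a b : T} (ha : a ⤳ t) (hb : b ⤳ t)
    (h : f a = f b) : a = b := by
  rw [← Set.mem_ofPred_eq (p := fun y => y ⤳ t), ← Scheme.range_fromSpecStalk] at ha hb
  obtain ⟨p, rfl⟩ := ha
  obtain ⟨q, rfl⟩ := hb
  rw [← Scheme.Hom.comp_apply, ← Scheme.Hom.comp_apply, ← Scheme.SpecMap_stalkMap_fromSpecStalk,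
    Scheme.Hom.comp_apply, Scheme.Hom.comp_apply] at h
  rw [(Spec.map (f.stalkMap t)).homeomorph.injective ((X.fromSpecStalk (f t)).isEmbedding.injective h)]

theorem mem_genericPoints_of_lift (t : T) [IsIso (f.stalkMap t)] {η : T} (h : η ⤳ t)
    (hη : f η ∈ genericPoints X) : η ∈ genericPoints T := by
  obtain ⟨ξ, hξ, hξη⟩ := exists_genericPoint_specializes η
  have h1 := eq_of_specializes_genericPoints hη (hξη.map f.continuous)
  exact eq_of_specializes f t (hξη.trans h) h h1 ▸ hξ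

/-- A neighbourhood in which every generic point specializes to `x`. -/
theorem exists_open_generic (hX : (irreducibleComponents X).Finite) (x : X) :
    ∃ O : X.Opens, x ∈ O ∧ ∀ η ∈ genericPoints X, η ∈ O → η ⤳ x := by
  have hC : IsClosed (⋃ Z ∈ {Z ∈ irreducibleComponents X | x ∉ Z}, Z) :=
    (hX.subset fun Z h => h.1).isClosed_biUnion fun Z hZ => isClosed_of_mem_irreducibleComponents Z hZ.1
  refine ⟨⟨_, hC.isOpen_compl⟩, fun hx => ?_, fun η hη hηO => ?_⟩
  · obtain ⟨Z, hZ, hxZ⟩ := Set.mem_iUnion₂.1 hx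
    exact hZ.2 hxZ
  · refine specializes_iff_mem_closure.2 ?_
    by_contra hx
    exact hηO (Set.mem_iUnion₂.2 ⟨closure {η}, ⟨hη, hx⟩, subset_closure rfl⟩)

/-- A function on the source gives a function near the finitely many points, up to nilpotents. -/
theorem exists_function (hX : (irreducibleComponents X).Finite)
    (hinj : ∀ η η' : T, η ∈ genericPoints T → η' ∈ genericPoints T → f η = f η' → η = η')
    {Xr : Scheme.{u}} [IsReduced Xr] (k : Xr ⟶ X) (s : Finset T) (hs : ∀ t ∈ s, IsIso (f.stalkMap t))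
    (A : X.Opens) (a : Γ(T, ⊤)) (ha : T.basicOpen a ≤ f ⁻¹ᵁ A) :
    ∃ (V : X.Opens) (h : Γ(Xr, k ⁻¹ᵁ V)), (∀ t ∈ s, f t ∈ V) ∧ Xr.basicOpen h ≤ k ⁻¹ᵁ A ∧
      ∀ t ∈ s, t ∈ T.basicOpen a → ∀ z, k z = f t → z ∈ Xr.basicOpen h := by
  classical
  have hloc : ∀ t : s, ∃ (U : X.Opens) (N : T.Opens) (e : N ≤ f ⁻¹ᵁ U) (g : Γ(X, U)),
      IsAffineOpen U ∧ f t.1 ∈ U ∧ t.1 ∈ N ∧ (∀ η ∈ genericPoints X, η ∈ U → η ⤳ f t.1) ∧
        (f.appLE U N e).hom g = (T.presheaf.map (homOfLE (le_top (a := N))).op).hom a := by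
    rintro ⟨t, ht⟩
    haveI := hs t ht
    obtain ⟨σ, hσ⟩ := ((ConcreteCategory.isIso_iff_bijective (f.stalkMap t)).1 inferInstance).2
      (T.presheaf.germ ⊤ t trivial a)
    obtain ⟨U₀, hxU₀, g₀, rfl⟩ := X.presheaf.exists_germ_eq (x := f t) σ
    obtain ⟨O, hxO, hO⟩ := exists_open_generic hX (f t)
    obtain ⟨U, hU, hxU, hle⟩ := exists_isAffineOpen_mem_and_subset (U := U₀ ⊓ O) (x := f t) ⟨hxU₀, hxO⟩
    let g := (X.presheaf.map (homOfLE (hle.trans inf_le_left)).op).hom g₀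
    have hg : T.presheaf.germ (f ⁻¹ᵁ U) t hxU ((f.app U).hom g) = T.presheaf.germ ⊤ t trivial a := by
      rw [← hσ, ← Scheme.Hom.germ_stalkMap_apply]
      exact congrArg (f.stalkMap t).hom (TopCat.Presheaf.germ_res_apply _ _ _ _ _)
    obtain ⟨N, htN, e₁, e₂, he⟩ := T.presheaf.germ_eq t hxU (TopologicalSpace.Opens.mem_top t) _ _ hg
    refine ⟨U, N, e₁.le, g, hU, hxU, htN, fun η hη hηU => hO η hη (hle hηU).2, ?_⟩
    rw [Scheme.Hom.appLE, CommRingCat.comp_apply]
    exact he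
  choose U N e g hUaff hxU htN hgen heq using hloc
  -- membership in `D(g)` can be read on `T`
  have hread : ∀ (t : s) (t' : T), t' ∈ N t → (f t' ∈ X.basicOpen (g t) ↔ t' ∈ T.basicOpen a) := by
    intro t t' ht'
    have h1 : N t ⊓ f ⁻¹ᵁ X.basicOpen (g t) = N t ⊓ T.basicOpen a := by
      rw [Scheme.preimage_basicOpen, ← Scheme.basicOpen_res T ((f.app (U t)).hom (g t)) (homOfLE (e t)).op,
        ← Scheme.basicOpen_res T a (homOfLE (le_top (a := N t))).op, ← heq t]
      rfl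
    have h2 := SetLike.ext_iff.1 h1 t'
    exact ⟨fun h => (h2.1 ⟨ht', h⟩).2, fun h => (h2.2 ⟨ht', h⟩).2⟩
  -- shrink so that `D(g)` is contained in `A`
  have hshrink : ∀ t : s, ∃ c : Γ(X, U t), f t.1 ∈ X.basicOpen c ∧ X.basicOpen c ⊓ X.basicOpen (g t) ≤ A := by
    intro t
    haveI := hs t.1 t.2
    let hU := hUaff t
    obtain ⟨I, hI⟩ := (PrimeSpectrum.isClosed_iff_zeroLocus_ideal _).1 (hU.fromSpec ⁻¹ᵁ A).2.isClosed_compl
    let p := hU.primeIdealOf ⟨f t.1, hxU t⟩
    let S := p.asIdeal.primeCompl ⊔ Submonoid.powers (g t)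
    obtain ⟨z, hz, hzS⟩ : ∃ z ∈ I, z ∈ S := by
      by_contra hne
      push Not at hne
      obtain ⟨P, hP, hIP, hPS⟩ := Ideal.exists_le_prime_disjoint I S (Set.disjoint_left.2 hne)
      let P' : PrimeSpectrum Γ(X, U t) := ⟨P, hP⟩
      have hPp : P' ≤ p := fun x hx => by
        by_contra hxp
        exact Set.disjoint_left.1 hPS hx (Submonoid.mem_sup_left hxp)
      have hy : hU.fromSpec P' ⤳ f t.1 := by
        have := ((PrimeSpectrum.le_iff_specializes _ _).1 hPp).map hU.fromSpec.continuous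
        rwa [hU.fromSpec_primeIdealOf] at this
      obtain ⟨t', ht', hft'⟩ := exists_lift_specializes f t.1 hy
      have hyA : hU.fromSpec P' ∉ A := fun hA =>
        (show P' ∉ ((↑(hU.fromSpec ⁻¹ᵁ A) : Set (Spec Γ(X, U t)))ᶜ) from fun h => h hA)
          (hI.symm.subset hIP)
      have hyg : hU.fromSpec P' ∈ X.basicOpen (g t) := by
        show P' ∈ hU.fromSpec ⁻¹ᵁ X.basicOpen (g t)
        rw [hU.fromSpec_preimage_basicOpen]
        exact fun h => Set.disjoint_left.1 hPS h (Submonoid.mem_sup_right (Submonoid.mem_powers _))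
      rw [← hft'] at hyg hyA
      exact hyA (ha ((hread t t' (ht'.mem_open (N t).2 (htN t))).1 hyg))
    obtain ⟨c, hc, _, ⟨n, rfl⟩, rfl⟩ := Submonoid.mem_sup.1 hzS
    refine ⟨c, ?_, fun y hy => ?_⟩
    · have : p ∈ hU.fromSpec ⁻¹ᵁ X.basicOpen c := by
        rw [hU.fromSpec_preimage_basicOpen]; exact hc
      have h4 : hU.fromSpec p ∈ X.basicOpen c := this
      rwa [hU.fromSpec_primeIdealOf] at h4
    · obtain ⟨P, rfl⟩ := FerrandPush.mem_range_fromSpec hU (X.basicOpen_le c hy.1)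
      have h1 := (SetLike.ext_iff.1 (hU.fromSpec_preimage_basicOpen c) P).1 hy.1
      have h2 := (SetLike.ext_iff.1 (hU.fromSpec_preimage_basicOpen (g t)) P).1 hy.2
      by_contra hA
      have h3 : P ∈ PrimeSpectrum.zeroLocus (I : Set Γ(X, U t)) := hI.subset hA
      rcases P.2.mem_or_mem (h3 hz) with h | h
      · exact h1 h
      · exact h2 (P.2.mem_of_pow_mem n h)
  choose c hxc hc using hshrink
  have hcU : ∀ t, X.basicOpen (c t) ≤ U t := fun t => X.basicOpen_le (c t)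
  let sf : ∀ t : s, Γ(Xr, k ⁻¹ᵁ X.basicOpen (c t)) := fun t =>
    (k.app _).hom ((X.presheaf.map (homOfLE (hcU t)).op).hom (g t))
  -- two of the local functions differ by a nilpotent
  have hcompat : TopCat.Presheaf.IsCompatible Xr.sheaf.obj (fun t : s => k ⁻¹ᵁ X.basicOpen (c t)) sf := by
    intro t l
    let D := X.basicOpen (c t) ⊓ X.basicOpen (c l)
    let dt := (X.presheaf.map (homOfLE (inf_le_left.trans (hcU t) : D ≤ U t)).op).hom (g t)
    let dl := (X.presheaf.map (homOfLE (inf_le_right.trans (hcU l) : D ≤ U l)).op).hom (g l)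
    have hbot : X.basicOpen (dt - dl) = ⊥ := by
      by_contra hne
      obtain ⟨y, hy⟩ := Set.nonempty_iff_ne_empty.2 fun h => hne (TopologicalSpace.Opens.ext h)
      obtain ⟨η, hη, hηy⟩ := exists_genericPoint_specializes y
      have hηd := hηy.mem_open (X.basicOpen (dt - dl)).2 hy
      have hηD : η ∈ D := X.basicOpen_le _ hηd
      haveI := hs t.1 t.2
      haveI := hs l.1 l.2
      obtain ⟨η₁, h₁, hf₁⟩ := exists_lift_specializes f t.1 (hgen t η hη (hcU t hηD.1))
      obtain ⟨η₂, h₂, hf₂⟩ := exists_lift_specializes f l.1 (hgen l η hη (hcU l hηD.2))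
      obtain rfl := hinj η₁ η₂ (mem_genericPoints_of_lift f t.1 h₁ (hf₁ ▸ hη))
        (mem_genericPoints_of_lift f l.1 h₂ (hf₂ ▸ hη)) (hf₁.trans hf₂.symm)
      let M := N t ⊓ N l ⊓ f ⁻¹ᵁ D
      have hM : η₁ ∈ M := ⟨⟨h₁.mem_open (N t).2 (htN t), h₂.mem_open (N l).2 (htN l)⟩,
        show f η₁ ∈ D from hf₁ ▸ hηD⟩
      have hMD : M ≤ f ⁻¹ᵁ D := inf_le_right
      have hzero : (f.appLE D M hMD).hom (dt - dl) = 0 := by
        rw [map_sub, sub_eq_zero]
        have key : ∀ (i : s) (hi : D ≤ U i) (hMi : M ≤ N i),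
            (f.appLE D M hMD).hom ((X.presheaf.map (homOfLE hi).op).hom (g i)) =
              (T.presheaf.map (homOfLE (le_top (a := M))).op).hom a := by
          intro i hi hMi
          rw [← CommRingCat.comp_apply, Scheme.Hom.map_appLE, ← Scheme.Hom.appLE_map (f := f) (e i) (homOfLE hMi).op,
            CommRingCat.comp_apply, heq i, ← CommRingCat.comp_apply, ← Functor.map_comp]
          rfl
        rw [key t _ (inf_le_left.trans inf_le_left), key l _ (inf_le_left.trans inf_le_right)]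
      have h3 : η₁ ∈ M ⊓ f ⁻¹ᵁ X.basicOpen (dt - dl) := ⟨hM, show f η₁ ∈ _ from hf₁ ▸ hηd⟩
      rw [Scheme.preimage_basicOpen, ← Scheme.basicOpen_res T _ (homOfLE hMD).op,
        ← CommRingCat.comp_apply,
        show f.app D ≫ T.presheaf.map (homOfLE hMD).op = f.appLE D M hMD from rfl, hzero,
        Scheme.basicOpen_zero] at h3
      exact h3
    have h0 : (k.app D).hom (dt - dl) = 0 := by
      rw [← basicOpen_eq_bot_iff, ← Scheme.preimage_basicOpen, hbot]
      rfl
    rw [map_sub, sub_eq_zero] at h0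
    have nat : ∀ (i : s) (hDi : D ≤ X.basicOpen (c i)),
        (Xr.presheaf.map (homOfLE (k.preimage_mono hDi)).op).hom (sf i) =
          (k.app D).hom ((X.presheaf.map (homOfLE (hDi.trans (hcU i))).op).hom (g i)) := by
      intro i hDi
      have h1 := k.naturality (homOfLE hDi).op
      have h2 := congrArg (fun q => q.hom ((X.presheaf.map (homOfLE (hcU i)).op).hom (g i))) h1
      simp only [CommRingCat.comp_apply] at h2
      refine h2.symm.trans (congrArg (k.app D).hom ?_)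
      rw [← CommRingCat.comp_apply, ← Functor.map_comp]
      rfl
    exact (nat t inf_le_left).trans (h0.trans (nat l inf_le_right).symm)
  let V : X.Opens := ⨆ t : s, X.basicOpen (c t)
  obtain ⟨h, hh, -⟩ := Xr.sheaf.existsUnique_gluing' (fun t : s => k ⁻¹ᵁ X.basicOpen (c t)) (k ⁻¹ᵁ V)
    (fun t => homOfLE (k.preimage_mono (le_iSup (fun t : s => X.basicOpen (c t)) t)))
    (fun z hz => by
      obtain ⟨t, ht⟩ := TopologicalSpace.Opens.mem_iSup.1 (show k z ∈ V from hz)
      exact TopologicalSpace.Opens.mem_iSup.2 ⟨t, ht⟩) sf hcompat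
  have hmem : ∀ (t : s) (z : Xr), k z ∈ X.basicOpen (c t) →
      (z ∈ Xr.basicOpen h ↔ k z ∈ X.basicOpen (g t)) := by
    intro t z hz
    have h1 := Scheme.basicOpen_res Xr h (homOfLE (k.preimage_mono (le_iSup (fun t : s => X.basicOpen (c t)) t))).op
    have h2 : Xr.basicOpen (sf t) = k ⁻¹ᵁ X.basicOpen (c t) ⊓ Xr.basicOpen h := by
      rw [← h1]; exact congrArg Xr.basicOpen (hh t).symm
    rw [show Xr.basicOpen (sf t) = k ⁻¹ᵁ (X.basicOpen (c t) ⊓ X.basicOpen (g t)) from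
      (Scheme.preimage_basicOpen k _).symm.trans
        (congrArg (k ⁻¹ᵁ ·) (Scheme.basicOpen_res X (g t) (homOfLE (hcU t)).op))] at h2
    have h3 := SetLike.ext_iff.1 h2 z
    exact ⟨fun hz' => (h3.2 ⟨hz, hz'⟩).2, fun hz' => (h3.1 ⟨hz, hz'⟩).2⟩
  refine ⟨V, h, fun t ht => TopologicalSpace.Opens.mem_iSup.2 ⟨⟨t, ht⟩, hxc _⟩, fun z hz => ?_,
    fun t ht hta z hz => (hmem ⟨t, ht⟩ z (hz ▸ hxc ⟨t, ht⟩)).2 (hz ▸ ?_)⟩
  · obtain ⟨t, ht⟩ := TopologicalSpace.Opens.mem_iSup.1 (show k z ∈ V from Xr.basicOpen_le h hz)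
    exact hc t ⟨ht, (hmem t z ht).1 hz⟩
  · exact (hread ⟨t, ht⟩ t (htN _)).2 hta

/-- Finitely many points of a scheme covered by affine basic opens of global sections lie in an affine open. -/
theorem exists_affine_of_quasiAffine (Q : Scheme.{u}) [Scheme.IsQuasiAffine Q] {F : Set Q} (hF : F.Finite) :
    ∃ W : Q.Opens, IsAffineOpen W ∧ F ⊆ (W : Set Q) := by
  obtain ⟨r, hr, hFr⟩ := S16031.exists_basicOpen_finite (isAffineOpen_top (Spec Γ(Q, ⊤))) Q.toSpecΓ.opensRange
    (hF.image Q.toSpecΓ) (fun _ _ => trivial) (by rintro _ ⟨x, -, rfl⟩; exact Set.mem_range_self x)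
  refine ⟨Q.toSpecΓ ⁻¹ᵁ (Spec Γ(Q, ⊤)).basicOpen r,
    ((isAffineOpen_top _).basicOpen r).preimage_of_isOpenImmersion Q.toSpecΓ hr, fun x hx => ?_⟩
  exact hFr ⟨x, hx, rfl⟩

/-- Images of finitely many points with isomorphic stalks lie in an affine open. -/
theorem exists_affine_of_stalkIso [IsAffine T] [QuasiSeparatedSpace X] (hX : (irreducibleComponents X).Finite)
    (hinj : ∀ η η' : T, η ∈ genericPoints T → η' ∈ genericPoints T → f η = f η' → η = η')
    (s : Finset T) (hs : ∀ t ∈ s, IsIso (f.stalkMap t)) :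
    ∃ U : X.Opens, IsAffineOpen U ∧ ∀ t ∈ s, f t ∈ U := by
  classical
  let J : X.IdealSheafData := vanishingIdeal ⊤
  haveI : IsReduced J.subscheme := DVRCrit.isReduced_vanishingIdeal _
  let k := J.subschemeι
  have hk : Function.Surjective k := fun x => by
    show x ∈ Set.range k
    rw [range_subι]
    trivial
  haveI : QuasiSeparatedSpace J.subscheme := quasiSeparatedSpace_of_quasiSeparated k
  have hstep : ∀ t : s, ∃ (A : X.Opens) (V : X.Opens) (h : Γ(J.subscheme, k ⁻¹ᵁ V)),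
      IsAffineOpen A ∧ (∀ t' ∈ s, f t' ∈ V) ∧ J.subscheme.basicOpen h ≤ k ⁻¹ᵁ A ∧
        ∀ z, k z = f t.1 → z ∈ J.subscheme.basicOpen h := by
    rintro ⟨t, ht⟩
    obtain ⟨A, hA, hxA, -⟩ := exists_isAffineOpen_mem_and_subset (U := ⊤) (show f t ∈ (⊤ : X.Opens) from trivial)
    obtain ⟨a, hale, hta⟩ := (isAffineOpen_top T).exists_basicOpen_le (V := f ⁻¹ᵁ A) ⟨t, hxA⟩ trivial
    obtain ⟨V, h, hV, hle, hmem⟩ := exists_function f hX hinj k s hs A a hale
    exact ⟨A, V, h, hA, hV, hle, hmem t ht hta⟩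
  choose A V h hA hV hle hmem using hstep
  let V₀ : X.Opens := Finset.univ.inf V
  have hW : ∀ t : s, ∃ W : X.Opens, IsAffineOpen W ∧ f t.1 ∈ W ∧ W ≤ V₀ := fun t => by
    obtain ⟨W, hW, hxW, hWV⟩ := exists_isAffineOpen_mem_and_subset (U := V₀) (x := f t.1)
      (by
        show f t.1 ∈ ((Finset.univ.inf V : X.Opens) : Set X)
        rw [TopologicalSpace.Opens.coe_finset_inf, Finset.inf_set_eq_iInter]
        exact Set.mem_iInter₂.2 fun l _ => hV l t.1 t.2)
    exact ⟨W, hW, hxW, hWV⟩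
  choose W hWaff hxW hWV using hW
  let R : J.subscheme.Opens := k ⁻¹ᵁ ⨆ t, W t
  have hRc : IsCompact (R : Set J.subscheme) := by
    show IsCompact (k ⁻¹' ((⨆ t, W t : X.Opens) : Set X))
    refine k.isClosedEmbedding.isCompact_preimage ?_
    rw [TopologicalSpace.Opens.coe_iSup]
    exact isCompact_iUnion fun t => (hWaff t).isCompact
  have hRq : IsQuasiSeparated (R : Set J.subscheme) := isQuasiSeparated_univ.of_subset (Set.subset_univ _)
  have hσ : ∀ t : s, ∃ σ : Γ(J.subscheme, R), IsAffineOpen (J.subscheme.basicOpen σ) ∧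
      ∀ z, k z = f t.1 → z ∈ J.subscheme.basicOpen σ := by
    intro t
    obtain ⟨z, hz⟩ := hk (f t.1)
    let h' := (J.subscheme.presheaf.map (homOfLE (k.preimage_mono
      ((iSup_le hWV).trans (Finset.inf_le (Finset.mem_univ t))) : R ≤ k ⁻¹ᵁ V t)).op).hom (h t)
    have hh' : J.subscheme.basicOpen h' = R ⊓ J.subscheme.basicOpen (h t) := Scheme.basicOpen_res _ _ _
    have hzR : z ∈ R := show k z ∈ _ from TopologicalSpace.Opens.mem_iSup.2 ⟨t, hz ▸ hxW t⟩
    have hzh : z ∈ J.subscheme.basicOpen h' := hh' ▸ ⟨hzR, hmem t z hz⟩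
    have hAr := (hA t).preimage k
    obtain ⟨e, hele, hze⟩ := hAr.exists_basicOpen_le (V := J.subscheme.basicOpen h') ⟨z, hzh⟩ (hle t (hmem t z hz))
    have hhA : J.subscheme.basicOpen h' ≤ k ⁻¹ᵁ A t := by rw [hh']; exact inf_le_right.trans (hle t)
    letI := (J.subscheme.presheaf.map (homOfLE (J.subscheme.basicOpen_le h')).op).hom.toAlgebra
    haveI := isLocalization_basicOpen_of_qcqs hRc hRq h'
    obtain ⟨n, σ, hσ⟩ := IsLocalization.Away.surj (S := Γ(J.subscheme, J.subscheme.basicOpen h')) h'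
      ((J.subscheme.presheaf.map (homOfLE hhA).op).hom e)
    have e2 := congrArg J.subscheme.basicOpen hσ
    rw [Scheme.basicOpen_mul, Scheme.basicOpen_of_isUnit _
      ((IsLocalization.Away.algebraMap_isUnit (S := Γ(J.subscheme, J.subscheme.basicOpen h')) h').pow n)] at e2
    rw [RingHom.algebraMap_toAlgebra] at e2
    erw [Scheme.basicOpen_res] at e2
    replace e2 := e2.trans (Scheme.basicOpen_res J.subscheme σ (homOfLE (J.subscheme.basicOpen_le h')).op)
    have e3 : J.subscheme.basicOpen (h' * σ) = J.subscheme.basicOpen e := by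
      rw [Scheme.basicOpen_mul]
      erw [← e2]
      exact le_antisymm (inf_le_left.trans inf_le_right) (le_inf (le_inf hele le_rfl) hele)
    refine ⟨h' * σ, e3 ▸ hAr.basicOpen e, fun z' hz' => ?_⟩
    rw [e3, k.isClosedEmbedding.injective (hz'.trans hz.symm)]
    exact hze
  choose σ hσaff hσmem using hσ
  let Q : J.subscheme.Opens := ⨆ t, J.subscheme.basicOpen (σ t)
  have hQR : Q ≤ R := iSup_le fun t => J.subscheme.basicOpen_le _
  haveI : CompactSpace Q.toScheme := isCompact_iff_compactSpace.1 (by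
    rw [TopologicalSpace.Opens.coe_iSup]
    exact isCompact_iUnion fun t => (hσaff t).isCompact)
  haveI : Scheme.IsQuasiAffine Q.toScheme := Scheme.IsQuasiAffine.of_forall_exists_mem_basicOpen _ fun x => by
    obtain ⟨t, ht⟩ := TopologicalSpace.Opens.mem_iSup.1 (show Q.ι x ∈ Q from x.2)
    refine ⟨(Q.ι.appLE R ⊤ (fun y _ => hQR y.2)).hom (σ t), ?_⟩
    have hb : Q.toScheme.basicOpen ((Q.ι.appLE R ⊤ (fun y _ => hQR y.2)).hom (σ t)) =
        Q.ι ⁻¹ᵁ J.subscheme.basicOpen (σ t) := by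
      rw [Scheme.Hom.appLE, CommRingCat.comp_apply, Scheme.basicOpen_res, ← Scheme.preimage_basicOpen, top_inf_eq]
    rw [hb]
    refine ⟨(hσaff t).preimage_of_isOpenImmersion Q.ι ?_, ht⟩
    rw [Scheme.Opens.opensRange_ι]
    exact le_iSup (fun t => J.subscheme.basicOpen (σ t)) t
  obtain ⟨B, hB, hFB⟩ := exists_affine_of_quasiAffine Q.toScheme
    (F := Q.ι ⁻¹' (k ⁻¹' (f '' (s : Set T))))
    (((s.finite_toSet.image f).preimage k.isClosedEmbedding.injective.injOn).preimage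
      Q.ι.isOpenEmbedding.injective.injOn)
  obtain ⟨O, hO, hOB⟩ := k.isClosedEmbedding.isInducing.isOpen_iff.1 (Q.ι ''ᵁ B).2
  let U : X.Opens := ⟨O, hO⟩
  have hkU : k ⁻¹ᵁ U = Q.ι ''ᵁ B := TopologicalSpace.Opens.ext hOB
  haveI : IsAffine (k ⁻¹ᵁ U).toScheme := hkU.symm ▸ hB.image_of_isOpenImmersion Q.ι
  haveI : IsClosedImmersion (k ∣_ U) := IsZariskiLocalAtTarget.restrict (P := @IsClosedImmersion) inferInstance U
  refine ⟨U, Thicken.isAffine (k ∣_ U) (fun x => ?_), fun t ht => ?_⟩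
  · obtain ⟨a, ha⟩ := hk x.1
    exact ⟨⟨a, show k a ∈ U by rw [ha]; exact x.2⟩, Subtype.ext ((morphismRestrict_base_coe k U _).trans ha)⟩
  · obtain ⟨z, hz⟩ := hk (f t)
    have hzQ : z ∈ Q := TopologicalSpace.Opens.mem_iSup.2 ⟨⟨t, ht⟩, hσmem _ z hz⟩
    have h1 : (⟨z, hzQ⟩ : Q.toScheme) ∈ B := hFB ⟨t, ht, hz.symm⟩
    have : z ∈ k ⁻¹ᵁ U := hkU ▸ ⟨⟨z, hzQ⟩, h1, rfl⟩
    exact hz ▸ this

end Groth.Agent.CompAffLib
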